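import Groth.Prelude.Def_AlgGrp
import Groth.Prelude.Def_Red
import Groth.Prelude.Def_Mor2
import Groth.Agent.S3024
import Groth.Agent.Lib.AffMono14.Basic
import Groth.Agent.Lib.GrpSchField.Points
import Groth.Agent.Lib.GrpSchField.Quot
import Groth.Agent.Lib.FibreFlat.Fibrewise
import Groth.Agent.Lib.FibreLocus.Hom
import Groth.Agent.Lib.AlgSp.FppfDescent
import Groth.Agent.Lib.EtLocal.Affine
import Groth.Agent.Lib.DiagGrp.KernelFP
import Mathlib

/-!
# Exactness of sequences of finite locally free group schemes from their orders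
-/

set_option autoImplicit false
set_option backward.isDefEq.respectTransparency false

universe u

open CategoryTheory CategoryTheory.Limits MonoidalCategory CartesianMonoidalCategory MonObj GrpObj AlgebraicGeometry

noncomputable section

namespace GrothLib.FinGrpExact13

section Algebra

variable {k : Type u} [Field k]

/-- The rank of a finite algebra over a field is its dimension. -/
theorem finrank_specMap (B : Type u) [CommRing B] [Algebra k B] [Module.Finite k B]
    (y : PrimeSpectrum k) :
    (Spec.map (CommRingCat.ofHom (algebraMap k B))).finrank y = Module.finrank k B := by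
  rw [Scheme.Hom.finrank_SpecMap_algebraMap, Module.rankAtStalk_eq_finrank_of_free]
  rfl

/-- Degrees multiply over a field. -/
theorem finrank_comp_field (B A : Type u) [CommRing B] [CommRing A] [Algebra k B] [Algebra k A] [Algebra B A]
    [IsScalarTower k B A] [Module.Finite k B] [Module.Finite B A] [Module.Flat B A] [Nontrivial B] (d : ℕ)
    (hd : ∀ y, Module.rankAtStalk (R := B) A y = d) :
    Module.finrank k A = Module.finrank k B * d := by
  have hrk : ∀ P : MaximalSpectrum B, Module.finrank (B ⧸ P.1) (TensorProduct B (B ⧸ P.1) A) = d := fun P => by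
    haveI := P.2
    letI := Ideal.Quotient.field P.1
    have h := Module.rankAtStalk_baseChange (R := B) (M := A) (S := B ⧸ P.1) (⟨⊥, Ideal.isPrime_bot⟩)
    rw [hd] at h
    rw [← h, Module.rankAtStalk_eq_finrank_of_free]
    rfl
  haveI : IsArtinianRing B := isArtinian_of_tower k (inferInstance : IsArtinian k B)
  haveI : Finite (MaximalSpectrum B) := inferInstance
  obtain ⟨b⟩ := Module.nonempty_basis_of_flat_of_finrank_eq B A d hrk
  haveI : Module.Free B A := Module.Free.of_basis b
  rw [← Module.finrank_mul_finrank k B A, Module.finrank_eq_card_basis b, Fintype.card_fin]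

end Algebra

section Field

variable {k : Type u} [Field k]

local notation "S" => Spec (CommRingCat.of k)

theorem nonempty_of_grp (Y : Over S) [GrpObj Y] : Nonempty ↥Y.left :=
  ⟨η[Y].left (IsLocalRing.closedPoint k)⟩

/-- A homomorphism of finite groups over a field with the expected orders is an fppf quotient map. -/
theorem flat_surjective_of_orders {G Q N : Over S} [GrpObj G] [GrpObj Q] (j : G ⟶ Q) [IsMonHom j]
    (i : N ⟶ G) (hK : AlgGrp.IsKernel i j) [IsFinite G.hom] [IsFinite Q.hom] [IsFinite N.hom] (dQ dN : ℕ)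
    (hdN : dN ≠ 0) (hG : ∀ y, G.hom.finrank y = dQ * dN) (hQ : ∀ y, Q.hom.finrank y = dQ)
    (hN : ∀ y, N.hom.finrank y = dN) : Flat j.left ∧ Surjective j.left := by
  haveI : IsAffine G.left := isAffine_of_isAffineHom G.hom
  haveI : IsAffine Q.left := isAffine_of_isAffineHom Q.hom
  haveI : Flat N.hom := GrothLib.AlgSp.flat_to_field _
  haveI : IsFinite (j.left ≫ Q.hom) := by rw [Over.w j]; infer_instance
  haveI : IsFinite j.left := IsFinite.of_comp j.left Q.hom
  obtain ⟨H', gH, i', f', hi', hf', hfi, hic, hker, hqc, hsur⟩ := Groth.Agent.S3024.result k G Q j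
  letI := gH
  haveI := hi'; haveI := hf'; haveI := hic; haveI := hqc; haveI := hsur
  haveI : IsAffine H'.left := isAffine_of_isAffineHom i'.left
  haveI : IsFinite H'.hom := by rw [← Over.w i']; infer_instance
  haveI : IsFinite (f'.left ≫ H'.hom) := by rw [Over.w f']; infer_instance
  haveI : IsFinite f'.left := IsFinite.of_comp f'.left H'.hom
  obtain ⟨hfl, -⟩ := GrothLib.AffMono14.flat_surjective_affine f' (by
    rw [RingHom.injective_iff_ker_eq_bot]
    have h := f'.left.ker_apply ⟨⊤, isAffineOpen_top H'.left⟩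
    rw [hker] at h
    simpa using h.symm)
  haveI := hfl
  haveI : Mono i' := (Over.forget _).mono_of_mono_map (inferInstanceAs (Mono i'.left))
  have hK' : IsPullback i (toUnit N) f' η[H'] := by
    have hw : i ≫ f' = toUnit N ≫ η[H'] := by
      rw [← cancel_mono i', Category.assoc, hfi, Category.assoc, IsMonHom.one_hom]
      exact hK.toCommSq.w
    refine IsPullback.of_isLimit' ⟨hw⟩ (PullbackCone.IsLimit.mk _
      (fun c => IsPullback.lift hK c.fst c.snd (by
        rw [← hfi, ← Category.assoc, c.condition, Category.assoc, IsMonHom.one_hom]))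
      (fun c => IsPullback.lift_fst hK _ _ _) (fun c => Subsingleton.elim _ _)
      fun c m h1 _ => IsPullback.hom_ext hK (h1.trans (IsPullback.lift_fst hK _ _ _).symm) (Subsingleton.elim _ _))
  have hdeg : ∀ y, f'.left.finrank y = dN := fun y => by
    obtain ⟨x, rfl⟩ := f'.left.surjective y
    have sq : IsPullback (fst G N * (snd G N ≫ i)).left (fst G N).left f'.left f'.left :=
      ((GrothLib.GrpSchField.isPullback_kernelPair hK').map (Over.forget _)).flip
    rw [← Scheme.Hom.finrank_of_isPullback _ _ _ _ sq x]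
    exact (Scheme.Hom.finrank_pullback_fst N.hom G.hom x).trans (hN _)
  obtain ⟨α, hα⟩ := Spec.map_surjective (H'.left.isoSpec.inv ≫ H'.hom)
  obtain ⟨αQ, hαQ⟩ := Spec.map_surjective (Q.left.isoSpec.inv ≫ Q.hom)
  obtain ⟨φ, hφ⟩ := Spec.map_surjective (G.left.isoSpec.inv ≫ f'.left ≫ H'.left.isoSpec.hom)
  obtain ⟨ψ, hψ⟩ := Spec.map_surjective (H'.left.isoSpec.inv ≫ i'.left ≫ Q.left.isoSpec.hom)
  letI : Algebra k Γ(H'.left, ⊤) := α.hom.toAlgebra
  letI : Algebra k Γ(Q.left, ⊤) := αQ.hom.toAlgebra
  letI : Algebra Γ(H'.left, ⊤) Γ(G.left, ⊤) := φ.hom.toAlgebra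
  letI : Algebra k Γ(G.left, ⊤) := ((α ≫ φ).hom).toAlgebra
  haveI : IsScalarTower k Γ(H'.left, ⊤) Γ(G.left, ⊤) := IsScalarTower.of_algebraMap_eq fun _ => rfl
  have eH : H'.hom = H'.left.isoSpec.hom ≫ Spec.map α := by rw [hα, Iso.hom_inv_id_assoc]
  have eQ : Q.hom = Q.left.isoSpec.hom ≫ Spec.map αQ := by rw [hαQ, Iso.hom_inv_id_assoc]
  have eG : G.hom = G.left.isoSpec.hom ≫ Spec.map (α ≫ φ) := by
    rw [Spec.map_comp, hφ, hα]; simp [Over.w f']
  have hψα : αQ ≫ ψ = α := Spec.map_injective (by
    rw [Spec.map_comp, hψ, hαQ, hα]; simp [Over.w i'])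
  haveI : IsFinite (Spec.map α) := by rw [hα]; infer_instance
  haveI : IsFinite (Spec.map αQ) := by rw [hαQ]; infer_instance
  haveI : IsFinite (Spec.map φ) := by rw [hφ]; infer_instance
  haveI : Flat (Spec.map φ) := by rw [hφ]; infer_instance
  haveI : Flat (Spec.map α) := GrothLib.AlgSp.flat_to_field _
  haveI : Flat (Spec.map αQ) := GrothLib.AlgSp.flat_to_field _
  haveI : IsFinite (Spec.map (α ≫ φ)) := by rw [Spec.map_comp]; infer_instance
  haveI : Flat (Spec.map (α ≫ φ)) := GrothLib.AlgSp.flat_to_field _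
  haveI : Module.Finite k Γ(H'.left, ⊤) := IsFinite.SpecMap_iff α |>.mp inferInstance
  haveI : Module.Finite k Γ(Q.left, ⊤) := IsFinite.SpecMap_iff αQ |>.mp inferInstance
  haveI : Module.Finite k Γ(G.left, ⊤) := IsFinite.SpecMap_iff (α ≫ φ) |>.mp inferInstance
  haveI : Module.Finite Γ(H'.left, ⊤) Γ(G.left, ⊤) := IsFinite.SpecMap_iff φ |>.mp inferInstance
  haveI : Module.Flat Γ(H'.left, ⊤) Γ(G.left, ⊤) := Flat.SpecMap_iff (f := φ) |>.mp inferInstance
  haveI : Nontrivial Γ(H'.left, ⊤) := by
    obtain ⟨y⟩ := nonempty_of_grp H'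
    exact PrimeSpectrum.nonempty_iff_nontrivial.mp ⟨H'.left.isoSpec.hom y⟩
  have hdeg' : ∀ y, Module.rankAtStalk (R := Γ(H'.left, ⊤)) Γ(G.left, ⊤) y = dN := fun y => by
    rw [← Scheme.Hom.finrank_SpecMap_algebraMap]
    show (Spec.map φ).finrank y = dN
    rw [hφ, Scheme.Hom.finrank_comp_left_of_isIso]
    refine Eq.trans ?_ (hdeg (H'.left.isoSpec.inv y))
    exact Scheme.Hom.finrank_of_isPullback (𝟙 _) (f'.left ≫ H'.left.isoSpec.hom) f'.left H'.left.isoSpec.inv
      (IsPullback.of_horiz_isIso ⟨by simp⟩) y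
  have hmul := finrank_comp_field (k := k) Γ(H'.left, ⊤) Γ(G.left, ⊤) dN hdeg'
  have y₀ : PrimeSpectrum k := IsLocalRing.closedPoint k
  have hGk : Module.finrank k Γ(G.left, ⊤) = dQ * dN := by
    rw [← finrank_specMap _ y₀]
    refine Eq.trans ?_ (hG y₀)
    rw [eG, Scheme.Hom.finrank_comp_left_of_isIso]
    rfl
  have hQk : Module.finrank k Γ(Q.left, ⊤) = dQ := by
    rw [← finrank_specMap _ y₀]
    refine Eq.trans ?_ (hQ y₀)
    rw [eQ, Scheme.Hom.finrank_comp_left_of_isIso]
    rfl
  have hH : Module.finrank k Γ(H'.left, ⊤) = dQ :=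
    Nat.eq_of_mul_eq_mul_right (Nat.pos_of_ne_zero hdN) (hmul.symm.trans hGk)
  haveI : IsClosedImmersion (Spec.map ψ) := by rw [hψ]; infer_instance
  have hψs : Function.Surjective ψ.hom := GrothLib.EtLocal.surjective_of_isClosedImmersion_specMap ψ
  let L : Γ(Q.left, ⊤) →ₗ[k] Γ(H'.left, ⊤) :=
    { toFun := ψ.hom
      map_add' := map_add _
      map_smul' := fun c x => by
        rw [Algebra.smul_def, map_mul, Algebra.smul_def, RingHom.id_apply]
        congr 1
        exact congrArg (fun q => q.hom c) hψα }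
  have hbij : Function.Bijective ψ.hom :=
    ⟨(LinearMap.injective_iff_surjective_of_finrank_eq_finrank (hQk.trans hH.symm)).mpr
      (show Function.Surjective L from hψs), hψs⟩
  haveI : IsIso ψ := (ConcreteCategory.isIso_iff_bijective ψ).2 hbij
  haveI : IsIso i'.left := by
    have : i'.left = H'.left.isoSpec.hom ≫ Spec.map ψ ≫ Q.left.isoSpec.inv := by rw [hψ]; simp
    rw [this]; infer_instance
  rw [← hfi, Over.comp_left]
  exact ⟨inferInstance, inferInstance⟩

end Field

section Global

variable {S : Scheme.{u}}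

/-- A homomorphism of finite locally free group schemes with the expected orders is finite locally
free and surjective. -/
theorem isFinLocFreeOfDeg_of_orders {G Q N : Over S} [GrpObj G] [GrpObj Q] (j : G ⟶ Q) [IsMonHom j]
    (i : N ⟶ G) (hK : AlgGrp.IsKernel i j) (dQ dN : ℕ) (hdN : dN ≠ 0)
    (hG : Mor2.IsFinLocFreeOfDeg (dQ * dN) G.hom) (hQ : Mor2.IsFinLocFreeOfDeg dQ Q.hom)
    (hN : Mor2.IsFinLocFreeOfDeg dN N.hom) :
    Mor2.IsFinLocFreeOfDeg dN j.left ∧ Surjective j.left := by
  obtain ⟨⟨_, _, _⟩, hG⟩ := hG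
  obtain ⟨⟨_, _, _⟩, hQ⟩ := hQ
  obtain ⟨⟨_, _, _⟩, hN⟩ := hN
  have hfib : ∀ s : S, Flat ((Over.pullback (S.fromSpecResidueField s)).map j).left ∧
      Surjective ((Over.pullback (S.fromSpecResidueField s)).map j).left := fun s => by
    let t := S.fromSpecResidueField s
    haveI : IsFinite ((Over.pullback t).obj G).hom := MorphismProperty.pullback_snd G.hom t ‹_›
    haveI : IsFinite ((Over.pullback t).obj Q).hom := MorphismProperty.pullback_snd Q.hom t ‹_›
    haveI : IsFinite ((Over.pullback t).obj N).hom := MorphismProperty.pullback_snd N.hom t ‹_›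
    have hK' : AlgGrp.IsKernel ((Over.pullback t).map i) ((Over.pullback t).map j) := by
      have h := IsPullback.map (Over.pullback t) hK
      let e := Functor.Monoidal.εIso (Over.pullback t)
      refine IsPullback.of_iso h (Iso.refl _) (Iso.refl _) e.symm (Iso.refl _) ?_ ?_ ?_ ?_
      · exact (Category.comp_id _).trans (Category.id_comp _).symm
      · exact Subsingleton.elim _ _
      · exact (Category.comp_id _).trans (Category.id_comp _).symm
      · rw [Functor.obj.η_def]
        show (Over.pullback t).map η ≫ 𝟙 _ = e.inv ≫ e.hom ≫ _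
        rw [Iso.inv_hom_id_assoc, Category.comp_id]
    exact flat_surjective_of_orders ((Over.pullback t).map j) _ hK' dQ dN hdN
      (fun y => (Scheme.Hom.finrank_pullback_snd G.hom t y).trans (hG _))
      (fun y => (Scheme.Hom.finrank_pullback_snd Q.hom t y).trans (hQ _))
      (fun y => (Scheme.Hom.finrank_pullback_snd N.hom t y).trans (hN _))
  haveI : IsFinite (j.left ≫ Q.hom) := by rw [Over.w j]; infer_instance
  haveI : Flat (j.left ≫ Q.hom) := by rw [Over.w j]; infer_instance
  haveI : LocallyOfFinitePresentation (j.left ≫ Q.hom) := by rw [Over.w j]; infer_instance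
  haveI : IsFinite j.left := IsFinite.of_comp j.left Q.hom
  haveI : LocallyOfFinitePresentation j.left := GrothLib.DiagGrp.lfp_of_comp_of_lft j.left Q.hom ‹_› inferInstance
  haveI : Flat j.left := by
    refine GrothLib.FibreFlat.flat_of_fibrewise' j.left Q.hom fun s => ?_
    haveI := (hfib s).1
    have sq := (GrothLib.FibreLocus.isPullback_map_left j (S.fromSpecResidueField s)).flip
    show Flat (pullback.snd j.left (pullback.fst Q.hom (S.fromSpecResidueField s)))
    rw [← sq.isoPullback_inv_snd]
    infer_instance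
  haveI : Surjective j.left := ⟨fun q => by
    obtain ⟨z, hz⟩ : q ∈ Set.range (pullback.fst Q.hom (S.fromSpecResidueField (Q.hom q))) := by
      rw [Scheme.Pullback.range_fst, Set.mem_preimage, Scheme.range_fromSpecResidueField]
      rfl
    haveI := (hfib (Q.hom q)).2
    obtain ⟨w, rfl⟩ := ((Over.pullback (S.fromSpecResidueField (Q.hom q))).map j).left.surjective z
    refine ⟨pullback.fst G.hom (S.fromSpecResidueField (Q.hom q)) w, ?_⟩
    refine Eq.trans ?_ hz
    exact congrArg (fun m => m w) ((GrothLib.FibreLocus.isPullback_map_left j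
      (S.fromSpecResidueField (Q.hom q))).w).symm⟩
  refine ⟨⟨⟨inferInstance, inferInstance, inferInstance⟩, fun y => ?_⟩, inferInstance⟩
  obtain ⟨x, rfl⟩ := j.left.surjective y
  have sq : IsPullback (fst G N * (snd G N ≫ i)).left (fst G N).left j.left j.left :=
    ((GrothLib.GrpSchField.isPullback_kernelPair hK).map (Over.forget _)).flip
  rw [← Scheme.Hom.finrank_of_isPullback _ _ _ _ sq x]
  exact (Scheme.Hom.finrank_pullback_fst N.hom G.hom x).trans (hN _)

end Global

end GrothLib.FinGrpExact13
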